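import Groth.Agent.Lib.ResGerb16.Sub
import Groth.Agent.S12867

/-! Images of monomorphisms and reductions of one point stacks. -/

universe u

open CategoryTheory CategoryTheory.Functor CategoryTheory.Limits AlgebraicGeometry Opposite

set_option linter.style.haveILetI false
set_option linter.unusedSectionVars false
set_option backward.isDefEq.respectTransparency false
set_option backward.isDefEq.respectTransparency.types false

namespace Groth.Agent.ResGerb16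

open Groth.Agent.FC16 hiding overMap
open Groth.Agent.StAlg Groth.Agent.StAlg16 AlgSt

variable {S : Scheme.{u}} {𝒳 𝒵 : AlgSt.Cat S}

/-- Fully faithful functors are injective on points. -/
theorem injective_map (h𝒵 : FibCat.IsFibGrpd 𝒵.p) (h𝒳 : FibCat.IsFibGrpd 𝒳.p) (f : 𝒵 ⥤ᵇ 𝒳)
    [f.toFunctor.Full] : Function.Injective (Points.map f) := fun z x h => by
  obtain ⟨w, hz, hx⟩ := exists_fp_point h𝒵 h𝒳 h𝒵 f f z x h
  obtain ⟨p, rfl⟩ := Points.mk_surjective w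
  rw [← hz, ← hx]
  exact Points.sound ⟨p.map (FibCat.fpFst f f), 𝟙 _, f.toFunctor.preimage p.obj.obj.iso.hom, trivial⟩

theorem smoothLocally_of_equiv {P : Scheme.{u} → Prop} {e : 𝒵 ⥤ᵇ 𝒳} (he : FibCat.IsEquivOver e)
    (h : AlgSt.SmoothLocally P 𝒵) : AlgSt.SmoothLocally P 𝒳 := fun U x hx => by
  obtain ⟨G, hG, -, -⟩ := exists_inverse he
  exact h U (BasedFunctor.comp x G)
    ((with_congr (f := BasedFunctor.comp x G) (f' := x) (a := BasedFunctor.id _) (b := G) isEquivOver_id hG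
      (Iso.refl _)).2 hx)

/-- An object isomorphic to an image is isomorphic to an image over the identity. -/
theorem exists_over_id (h𝒵 : FibCat.IsFibGrpd 𝒵.p) (h𝒳 : FibCat.IsFibGrpd 𝒳.p) (f : 𝒵 ⥤ᵇ 𝒳) {z : 𝒵.obj}
    {ξ : 𝒳.obj} (i : f.obj z ≅ ξ) :
    ∃ (z' : 𝒵.obj) (e : f.obj z' ≅ ξ), 𝒳.p.IsHomLift (𝟙 (𝒳.p.obj ξ)) e.hom := by
  let g : 𝒳.p.obj ξ ⟶ 𝒵.p.obj z := 𝒳.p.map i.inv ≫ eqToHom (f.w_obj z)
  obtain ⟨z', φ, hφ⟩ := FC16.exists_lift h𝒵 (x := z) rfl g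
  haveI := hφ
  haveI : 𝒳.p.IsHomLift g i.inv := IsHomLift.of_fac' _ _ _ rfl (f.w_obj z) (by simp [g])
  haveI : 𝒳.p.IsHomLift g (f.map φ) := BasedFunctor.preserves_isHomLift f g φ
  obtain ⟨e, he, -⟩ := exists_iso_of_lifts h𝒳 g (f.map φ) i.inv
  exact ⟨z', e, he⟩

/-- The residual gerbe cut out by a monomorphism from a reduced locally noetherian one point stack. -/
theorem exists_isResGerbe (h𝒳 : IsAlgStack Scheme.fppfPrecoverage 𝒳) (x : Points 𝒳)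
    (h𝒵 : IsAlgStack Scheme.fppfPrecoverage 𝒵) (hred : AlgSt.SmoothLocally (fun T => IsReduced T) 𝒵)
    (hnoeth : AlgSt.SmoothLocally (fun T => IsLocallyNoetherian T) 𝒵)
    (hne : Nonempty (Points 𝒵)) (hsub : Subsingleton (Points 𝒵))
    (f : 𝒵 ⥤ᵇ 𝒳) (hf : AlgSt.IsMono f) (hfx : ∀ p : Points 𝒵, Points.map f p = x) :
    ∃ Q : 𝒳.obj → Prop, Gerb.IsResGerbe Scheme.fppfPrecoverage 𝒳 x Q ∧
      ∃ e : 𝒵 ⥤ᵇ AlgSt.fullSub 𝒳 Q, FibCat.IsEquivOver e ∧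
        Nonempty (BasedFunctor.comp e (AlgSt.subIncl 𝒳 Q) ≅ f) := by
  have gZ := h𝒵.isStack.1
  have gX := h𝒳.isStack.1
  haveI := FC16.isFibered gZ
  haveI := FC16.isFibered gX
  obtain ⟨h₁, h₂⟩ := fullyFaithful_of_isMono gZ gX f hf
  haveI := h₁
  haveI := h₂
  let Q : 𝒳.obj → Prop := fun ξ => ∃ z : 𝒵.obj, Nonempty (f.obj z ≅ ξ)
  have hQ : ObjectProperty.IsClosedUnderIsomorphisms Q := ⟨fun i ⟨z, ⟨j⟩⟩ => ⟨z, ⟨j ≪≫ i⟩⟩⟩
  let e : 𝒵 ⥤ᵇ AlgSt.fullSub 𝒳 Q :=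
    { toFunctor := ObjectProperty.lift Q f.toFunctor fun z => ⟨z, ⟨Iso.refl _⟩⟩
      w := f.w }
  haveI : e.toFunctor.Full := ⟨fun {a b} φ => ⟨f.toFunctor.preimage φ.hom,
    ObjectProperty.hom_ext _ (f.toFunctor.map_preimage _)⟩⟩
  haveI : e.toFunctor.Faithful := ⟨fun {a b φ ψ} h => f.toFunctor.map_injective (congrArg (·.hom) h)⟩
  have he : FibCat.IsEquivOver e := FC16.isEquivOver_of e fun ξ => by
    obtain ⟨z, ⟨i⟩⟩ := ξ.property
    obtain ⟨z', j, hj⟩ := exists_over_id gZ gX f i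
    refine ⟨z', ObjectProperty.isoMk _ j, ?_⟩
    haveI := hj
    exact IsHomLift.of_fac' _ _ _ ((f.w_obj z').trans ((f.w_obj z').symm.trans
      (IsHomLift.domain_eq 𝒳.p (𝟙 (𝒳.p.obj ξ.obj)) j.hom))) rfl
      (IsHomLift.fac' 𝒳.p (𝟙 (𝒳.p.obj ξ.obj)) j.hom)
  let j : BasedFunctor.comp e (AlgSt.subIncl 𝒳 Q) ≅ f :=
    BasedNatIso.mkNatIso (NatIso.ofComponents (fun z => Iso.refl _) (fun {a b} φ => by
      show f.map φ ≫ 𝟙 _ = 𝟙 _ ≫ f.map φ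
      simp)) (fun z => IsHomLift.id (f.w_obj z))
  have hb := map_bijective he
  refine ⟨Q, ⟨hQ, StAlg.isAlgStack_of_equiv he h𝒵, smoothLocally_of_equiv he hred, smoothLocally_of_equiv he hnoeth,
    hne.map (Points.map e), hb.2.subsingleton, fun z => ?_⟩, e, he, ⟨j⟩⟩
  obtain ⟨p, rfl⟩ := hb.2 z
  rw [← map_comp_apply, map_eq_map_of_iso j, hfx p]

/-- A one point stack has a reduction. -/
theorem exists_reduced (h𝒵 : IsAlgStack Scheme.fppfPrecoverage 𝒵) (hne : Nonempty (Points 𝒵))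
    (hsub : Subsingleton (Points 𝒵)) :
    ∃ (𝒲 : AlgSt.Cat S) (i : 𝒲 ⥤ᵇ 𝒵), IsAlgStack Scheme.fppfPrecoverage 𝒲 ∧
      AlgSt.SmoothLocally (fun T => IsReduced T) 𝒲 ∧ i.toFunctor.Full ∧ i.toFunctor.Faithful ∧
      Nonempty (Points 𝒲) ∧ Subsingleton (Points 𝒲) := by
  obtain ⟨Q, ⟨-, hA, -⟩, hr, hred⟩ := Groth.Agent.S12867.result h𝒵 Set.univ isClosed_univ
  haveI : (AlgSt.subIncl 𝒵 Q).toFunctor.Full := inferInstanceAs (ObjectProperty.ι Q).Full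
  obtain ⟨p⟩ := hne
  obtain ⟨w, -⟩ : p ∈ Set.range (Points.map (AlgSt.subIncl 𝒵 Q)) := hr ▸ Set.mem_univ p
  exact ⟨_, AlgSt.subIncl 𝒵 Q, hA, hred, inferInstanceAs (ObjectProperty.ι Q).Full,
    inferInstanceAs (ObjectProperty.ι Q).Faithful, ⟨w⟩,
    (injective_map hA.isStack.1 h𝒵.isStack.1 (AlgSt.subIncl 𝒵 Q)).subsingleton⟩

end Groth.Agent.ResGerb16
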