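import Groth.Agent.Lib.StAlg16.SourceLocal
import Groth.Agent.Lib.StAlg16.LocQApps
import Groth.Agent.Lib.StAlg16.PointsSp
import Groth.Agent.Lib.StAlg16.LocPInst
import Groth.Agent.Lib.AlgSpDescent.SrcInstances
import Groth.Agent.Lib.AlgSpDescent.RedNoeth
import Groth.Agent.Lib.AlgSpDecent.ClosedPoints
import Groth.Agent.Lib.Residual14.OnePoint

/-! One point stacks and their field-valued points. -/

universe u

open CategoryTheory CategoryTheory.Functor CategoryTheory.Limits AlgebraicGeometry Opposite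

set_option linter.style.haveILetI false
set_option linter.unusedSectionVars false
set_option backward.isDefEq.respectTransparency false
set_option backward.isDefEq.respectTransparency.types false

namespace Groth.Agent.ResGerb16

open Groth.Agent.FC16 hiding overMap
open Groth.Agent.StAlg Groth.Agent.StAlg16 AlgSt

variable {S : Scheme.{u}} {𝒵 : AlgSt.Cat S}

/-- Every morphism from a scheme to an algebraic stack is representable. -/
theorem rep1_pt {K : Precoverage Scheme.{u}} (h : IsAlgStack K 𝒵) {U : Over S}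
    (x : FibCat.overCat U ⥤ᵇ 𝒵) : AlgSt.RepByAlgSp1 x :=
  (StAlg.rep1_diag_iff h.isStack.1).1 h.diag U x

theorem subsingleton_left {k : Type u} [Field k] (a : Spec (CommRingCat.of k) ⟶ S) :
    Subsingleton ↥(Over.mk a).left :=
  inferInstanceAs (Subsingleton (PrimeSpectrum k))

theorem flat_to_field {k : Type u} [Field k] {a : Spec (CommRingCat.of k) ⟶ S} {T : Scheme.{u}}
    (f : T ⟶ (Over.mk a).left) : Flat f := by
  refine Residual14.flat_of_isField_stalk f fun y => ?_
  haveI : Ring.KrullDimLE 0 ((Spec (CommRingCat.of k)).presheaf.stalk y) :=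
    Ring.krullDimLE_iff.2 (Residual14.isField_stalk_of_subsingleton_field y).le
  exact Ring.KrullDimLE.isField_of_isReduced (R := (Spec (CommRingCat.of k)).presheaf.stalk y)

/-- The generic point of a component of a reduced scheme has a field as local ring. -/
theorem exists_field_stalk (X : Scheme.{u}) [IsReduced X] [Nonempty X] :
    ∃ η : X, IsField (X.presheaf.stalk η) := by
  obtain ⟨x⟩ := ‹Nonempty X›
  have hi := isIrreducible_irreducibleComponent (X := ↥X) (x := x)
  have hg := hi.isGenericPoint_genericPoint isClosed_irreducibleComponent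
  refine ⟨hi.genericPoint, ?_⟩
  have hd : ringKrullDim (X.presheaf.stalk hi.genericPoint) = 0 := by
    letI := specializationPreorder X
    rw [ringKrullDim_stalk_eq_coheight]
    have h : Order.coheight hi.genericPoint = 0 := Order.coheight_eq_zero.2 fun b hb => by
      have hb' : b ⤳ hi.genericPoint := hb
      have hcl : closure ({b} : Set X) = irreducibleComponent x :=
        eq_irreducibleComponent isIrreducible_singleton.closure.isPreirreducible
          (hg.def ▸ closure_minimal (Set.singleton_subset_iff.2 (specializes_iff_mem_closure.1 hb'))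
            isClosed_closure)
      exact specializes_iff_mem_closure.2 (hg.def.symm ▸ hcl ▸ subset_closure (Set.mem_singleton b))
    rw [h]; rfl
  haveI : Ring.KrullDimLE 0 (X.presheaf.stalk hi.genericPoint) := Ring.krullDimLE_iff.2 hd.le
  exact Ring.KrullDimLE.isField_of_isReduced

theorem flat_of_field_point {K : Type u} [Field K] {X : Scheme.{u}} (f : Spec (CommRingCat.of K) ⟶ X)
    {η : X} (hη : f (IsLocalRing.closedPoint K) = η) (h : IsField (X.presheaf.stalk η)) : Flat f := by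
  rw [Flat.iff_flat_stalkMap]
  intro t
  haveI : Subsingleton ↥(Spec (CommRingCat.of K)) := inferInstanceAs (Subsingleton (PrimeSpectrum K))
  have h' : IsField (X.presheaf.stalk (f t)) := by
    rw [Subsingleton.elim t (IsLocalRing.closedPoint K), hη]; exact h
  algebraize [(f.stalkMap t).hom]
  letI := h'.toField
  exact RingHom.flat_algebraMap_iff.2 inferInstance

theorem locP_flat_of_comp {X Y Z : AlgSp.Sp S} (hX : AlgSp.IsAlgSpace X) (hY : AlgSp.IsAlgSpace Y)
    (hZ : AlgSp.IsAlgSpace Z) (b : X ⟶ Y) (a : Y ⟶ Z)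
    (hb : ∀ k, ![AlgSp.LocP @Flat, AlgSp.IsSurjectiveMor] k b) (h : AlgSp.LocP @Flat (b ≫ a)) :
    AlgSp.LocP @Flat a := by
  have hl : AlgSp.IsLocalOnSource (fun {ι : Type u} (X : AlgSp.Sp S) (Xi : ι → AlgSp.Sp S) g =>
      (∀ i, AlgSp.LocP @Flat (g i)) ∧ ∀ x : AlgSp.Points X, ∃ i, x ∈ Set.range (AlgSp.Points.map (g i)))
      (AlgSp.LocP @Flat) :=
    AlgSpDescent.isLocalOnSource_locP AlgSpDescent.precompEtale_flat AlgSpDescent.descendsEtaleSource_flat
      AlgSpDescent.precompEtale_flat AlgSpDescent.descendsEtaleSource_flat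
      (fun _ _ _ p q hp hq => MorphismProperty.comp_mem (W := (@Flat : MorphismProperty Scheme.{u})) p q hp hq)
      (fun _ _ _ p q hp hs h => @AlgSpDescent.flat_of_comp_flat_surjective _ _ _ p q hp hs h)
      fun _ _ _ _ _ _ hg => hg
  refine (hl (ι := PUnit.{u + 1}) (fun _ => X) (fun _ => b) hY (fun _ => hX)
    ⟨fun _ => hb 0, fun x => ?_⟩ a hZ).2 fun _ => h
  obtain ⟨p, hp⟩ := hb 1 x
  exact ⟨PUnit.unit, p, hp⟩

variable {k : Type u} [Field k] {a : Spec (CommRingCat.of k) ⟶ S} (h𝒵 : IsAlgStack Scheme.fppfPrecoverage 𝒵)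

include h𝒵 in
theorem with_surjective_pt [Subsingleton (Points 𝒵)] (z : FibCat.overCat (Over.mk a) ⥤ᵇ 𝒵) :
    AlgSt.RepByAlgSpWith AlgSp.IsSurjectiveMor z :=
  with_surjective_of_isSurjective (overCat_isFibGrpd _) h𝒵.isStack.1 (rep1_pt h𝒵 z) fun _ =>
    ⟨Points.mk (chartPt (Over.mk a) (IsLocalRing.closedPoint k)), Subsingleton.elim _ _⟩

include h𝒵 in
theorem singleton_points (z : FibCat.overCat (Over.mk a) ⥤ᵇ 𝒵)
    (hzs : AlgSt.RepByAlgSpWith AlgSp.IsSurjectiveMor z) :
    Nonempty (Points 𝒵) ∧ Subsingleton (Points 𝒵) := by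
  refine ⟨⟨Points.ofChart z (IsLocalRing.closedPoint k)⟩, ⟨fun p q => ?_⟩⟩
  haveI := subsingleton_left a
  obtain ⟨s, rfl⟩ := surjective_ofChart h𝒵.isStack.1 hzs p
  obtain ⟨t, rfl⟩ := surjective_ofChart h𝒵.isStack.1 hzs q
  rw [Subsingleton.elim s t]

include h𝒵 in
/-- A field-valued point of a reduced one point stack is flat. -/
theorem with_flat_pt (hred : AlgSt.SmoothLocally (fun T => IsReduced T) 𝒵) [Subsingleton (Points 𝒵)]
    (z : FibCat.overCat (Over.mk a) ⥤ᵇ 𝒵) : AlgSt.RepByAlgSpWith (AlgSp.LocP @Flat) z := by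
  have gZ := h𝒵.isStack.1
  obtain ⟨U, x, hx, hxs⟩ := h𝒵.atlas
  haveI := hred U x hx
  obtain ⟨t₀, -⟩ := surjective_ofChart gZ hxs (Points.ofChart z (IsLocalRing.closedPoint k))
  haveI : Nonempty U.left := ⟨t₀⟩
  obtain ⟨η, hη⟩ := exists_field_stalk U.left
  obtain ⟨w, hw₁, -⟩ := exists_fp_point (overCat_isFibGrpd (Over.mk a)) gZ (overCat_isFibGrpd U) z x
    (Points.mk (chartPt U η)) (Points.mk (chartPt (Over.mk a) (IsLocalRing.closedPoint k)))
    (Subsingleton.elim _ _)
  obtain ⟨p, rfl⟩ := Points.mk_surjective w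
  haveI := FC16.isFibered (fp_isFibGrpd (overCat_isFibGrpd U) (overCat_isFibGrpd (Over.mk a)) gZ x z)
  let φ : FibCat.overCat (Over.mk p.str) ⥤ᵇ FibCat.fp x z := ofObj p.lies
  obtain ⟨α, ⟨iα⟩⟩ := exists_overMap_iso (BasedFunctor.comp φ (FibCat.fpFst x z))
  obtain ⟨β, ⟨iβ⟩⟩ := exists_overMap_iso (BasedFunctor.comp φ (FibCat.fpSnd x z))
  have hαη : α.left (IsLocalRing.closedPoint p.K) = η := by
    let q : FPt (FibCat.overCat (Over.mk p.str)) :=
      { K := p.K, str := p.str, obj := Over.mk (𝟙 _), lies := rfl }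
    have hq : Points.map φ (Points.mk q) = Points.mk p :=
      Points.sound ⟨q.map φ, 𝟙 _, (ofObjIso p.lies).hom, trivial⟩
    have h1 : Points.map (AlgSt.overMap α) (Points.mk q) = Points.mk (chartPt U η) := by
      rw [← map_eq_map_of_iso iα, map_comp_apply, hq, hw₁]
    have h2 := congrArg ptOf h1
    rw [ptOf_map_overMap, ptOf_chartPt] at h2
    rw [← h2]
    haveI := subsingleton_left p.str
    exact congrArg α.left (Subsingleton.elim _ _)
  have hα : Flat α.left := flat_of_field_point (K := p.K) α.left hαη hη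
  have h1 : AlgSt.RepByAlgSpWith (AlgSp.LocP @Flat) (BasedFunctor.comp (AlgSt.overMap β) z) :=
    with_of_iso (wrIso iα.symm x ≪≫ wlIso φ (FibCat.fpIso x z) ≪≫ wrIso iβ z)
      (with_comp goodP_locP (overCat_isFibGrpd _) (overCat_isFibGrpd U) (with_locP_overMap α hα)
        (with_locP_mono smooth_le_flat hx))
  have hβ₁ := with_locP_overMap (P := @Flat) β (flat_to_field (a := a) β.left)
  have hβ₂ : AlgSt.RepByAlgSpWith AlgSp.IsSurjectiveMor (AlgSt.overMap β) :=
    with_surjective_of_isSurjective (overCat_isFibGrpd _) (overCat_isFibGrpd _)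
      (repByAlgSp1_of_with hβ₁) fun q => by
        haveI := subsingleton_left a
        refine ⟨Points.mk (chartPt (Over.mk p.str) (IsLocalRing.closedPoint p.K)), ?_⟩
        rw [← mk_chartPt_ptOf q, ← mk_chartPt_ptOf (Points.map (AlgSt.overMap β) _)]
        exact congrArg (fun t => Points.mk (chartPt (Over.mk a) t)) (Subsingleton.elim _ _)
  exact with_of_comp_of_source (fun _ _ _ _ h₁ h₂ _ h₄ _ _ _ _ sq h =>
      AlgSpace.locP_of_isPullback h₁ h₂ h₄ sq h) _
    (fun i => by fin_cases i <;> first | exact goodP_locP | exact goodP_surjective)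
    (fun _ _ _ h₁ h₂ h₃ b c hb hc => locP_flat_of_comp h₁ h₂ h₃ b c hb hc)
    (overCat_isFibGrpd _) (overCat_isFibGrpd _) gZ (rep1_pt h𝒵 z) (repByAlgSp1_of_with hβ₁)
    (fun i => by fin_cases i <;> first | exact hβ₁ | exact hβ₂) h1

include h𝒵 in
/-- A reduced one point stack has a field-valued point locally of finite type. -/
theorem exists_lft_pt [Nonempty (Points 𝒵)] :
    ∃ (K : Type u) (_ : Field K) (b : Spec (CommRingCat.of K) ⟶ S) (z : FibCat.overCat (Over.mk b) ⥤ᵇ 𝒵),
      AlgSt.RepByAlgSpWith (AlgSp.LocP @LocallyOfFiniteType) z ∧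
      (AlgSt.SmoothLocally (fun T => IsLocallyNoetherian T) 𝒵 →
        AlgSt.RepByAlgSpWith (AlgSp.LocP @LocallyOfFinitePresentation) z) := by
  obtain ⟨U, x, hx, hxs⟩ := h𝒵.atlas
  obtain ⟨t₀, -⟩ := surjective_ofChart h𝒵.isStack.1 hxs (Classical.arbitrary (Points 𝒵))
  obtain ⟨W, hW, ht, -⟩ := exists_isAffineOpen_mem_and_subset (X := U.left) (x := t₀) (U := ⊤) trivial
  haveI : IsAffine W.toScheme := hW
  haveI : Nonempty W.toScheme := ⟨⟨t₀, ht⟩⟩
  obtain ⟨u, -, hu⟩ := IsClosed.exists_closed_singleton (X := ↥W.toScheme) isClosed_univ Set.univ_nonempty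
  haveI := AlgSpDecent.isClosedImmersion_fromSpecResidueField (S := W.toScheme) hu
  let r := W.toScheme.fromSpecResidueField u
  let B : Over S := Over.mk (r ≫ W.ι ≫ U.hom)
  let m : B ⟶ U := Over.homMk (r ≫ W.ι) (by simp [B])
  refine ⟨_, inferInstance, r ≫ W.ι ≫ U.hom, BasedFunctor.comp (AlgSt.overMap m) x,
    with_comp goodP_locP (overCat_isFibGrpd _) (overCat_isFibGrpd U)
      (with_locP_overMap m (inferInstanceAs (LocallyOfFiniteType (r ≫ W.ι))))
      (with_locP_mono StAlg.smooth_le_lft hx), fun hn => ?_⟩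
  haveI := hn U x hx
  haveI : LocallyOfFiniteType m.left := inferInstanceAs (LocallyOfFiniteType (r ≫ W.ι))
  exact with_comp goodP_locP (overCat_isFibGrpd _) (overCat_isFibGrpd U)
    (with_locP_overMap m (LocallyOfFinitePresentation.iff_locallyOfFiniteType.2 ‹_›))
    (with_locP_mono smooth_le_lfp hx)

include h𝒵 in
/-- Properties of smooth covers descend from a field to its flat image. -/
theorem exists_chart_square (z : FibCat.overCat (Over.mk a) ⥤ᵇ 𝒵)
    (hzs : AlgSt.RepByAlgSpWith AlgSp.IsSurjectiveMor z) (hzf : AlgSt.RepByAlgSpWith (AlgSp.LocP @Flat) z)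
    {U : Over S} {x : FibCat.overCat U ⥤ᵇ 𝒵} (hx : AlgSt.RepByAlgSpWith (AlgSp.LocP @Smooth) x) :
    ∃ (A : Over S) (h : A ⟶ U) (d : A ⟶ Over.mk a), Flat h.left ∧ Surjective h.left ∧ Smooth d.left ∧
      (AlgSt.RepByAlgSpWith (AlgSp.LocP @LocallyOfFinitePresentation) z → LocallyOfFinitePresentation h.left) := by
  have gZ := h𝒵.isStack.1
  have gK := overCat_isFibGrpd (Over.mk a)
  obtain ⟨A, h, c, ⟨j⟩, hc, hcs⟩ := exists_good (isAlgStack_overCat (Over.mk a)) h𝒵 z x
  obtain ⟨d, ⟨id'⟩⟩ := exists_overMap_iso (BasedFunctor.comp c (FibCat.fpSnd x z))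
  have hfp := fp_isFibGrpd (overCat_isFibGrpd U) gK gZ x z
  refine ⟨A, h, d,
    of_with_locP_overMap h (with_of_iso j (with_comp goodP_locP (overCat_isFibGrpd A) hfp
      (with_locP_mono smooth_le_flat hc) (with_fpFst x hzf))), ⟨fun w => ?_⟩,
    of_with_locP_overMap d (with_of_iso id' (with_fpSnd_chart goodP_locP gK gZ hc hx)),
    fun hzp => of_with_locP_overMap h (with_of_iso j (with_comp goodP_locP (overCat_isFibGrpd A) hfp
      (with_locP_mono smooth_le_lfp hc) (with_fpFst x hzp)))⟩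
  have ha := surjective_ofChart (overCat_isFibGrpd U)
    (with_of_iso j (with_comp goodP_surjective (overCat_isFibGrpd A) hfp hcs (with_fpFst x hzs)))
  obtain ⟨m, hm⟩ := ha (Points.mk (chartPt U w))
  refine ⟨m, ?_⟩
  rw [ofChart_eq] at hm
  have h1 := congrArg ptOf hm
  rwa [ptOf_map_overMap, ptOf_chartPt, ptOf_chartPt] at h1

include h𝒵 in
theorem smoothLocally_isReduced (z : FibCat.overCat (Over.mk a) ⥤ᵇ 𝒵)
    (hzs : AlgSt.RepByAlgSpWith AlgSp.IsSurjectiveMor z) (hzf : AlgSt.RepByAlgSpWith (AlgSp.LocP @Flat) z) :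
    AlgSt.SmoothLocally (fun T => IsReduced T) 𝒵 := fun U x hx => by
  obtain ⟨A, h, d, hh, hs, hd, -⟩ := exists_chart_square h𝒵 z hzs hzf hx
  haveI := hd; haveI := hh; haveI := hs
  haveI : IsReduced (Over.mk a).left := inferInstanceAs (IsReduced (Spec (CommRingCat.of k)))
  haveI : IsReduced A.left := AlgSpDescent.isReduced_of_smooth d.left
  exact H12.isReduced_of_flat_surjective h.left

include h𝒵 in
theorem smoothLocally_isLocallyNoetherian (z : FibCat.overCat (Over.mk a) ⥤ᵇ 𝒵)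
    (hzp : AlgSt.RepByAlgSpWith (AlgSp.LocP @LocallyOfFinitePresentation) z)
    (hzs : AlgSt.RepByAlgSpWith AlgSp.IsSurjectiveMor z) (hzf : AlgSt.RepByAlgSpWith (AlgSp.LocP @Flat) z) :
    AlgSt.SmoothLocally (fun T => IsLocallyNoetherian T) 𝒵 := fun U x hx => by
  obtain ⟨A, h, d, hh, hs, hd, hp⟩ := exists_chart_square h𝒵 z hzs hzf hx
  haveI := hd; haveI := hh; haveI := hs; haveI := hp hzp
  haveI : IsLocallyNoetherian (Over.mk a).left :=
    inferInstanceAs (IsLocallyNoetherian (Spec (CommRingCat.of k)))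
  haveI : IsLocallyNoetherian A.left := LocallyOfFiniteType.isLocallyNoetherian d.left
  exact AlgSpDescent.isLocallyNoetherian_of_fppf h.left

include h𝒵 in
/-- A stack receiving a surjective flat field point has only flat surjective field points. -/
theorem flat_surjective_pt (z : FibCat.overCat (Over.mk a) ⥤ᵇ 𝒵)
    (hzs : AlgSt.RepByAlgSpWith AlgSp.IsSurjectiveMor z) (hzf : AlgSt.RepByAlgSpWith (AlgSp.LocP @Flat) z)
    {K : Type u} [Field K] {b : Spec (CommRingCat.of K) ⟶ S} (z' : FibCat.overCat (Over.mk b) ⥤ᵇ 𝒵) :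
    AlgSt.RepByAlgSpWith AlgSp.IsSurjectiveMor z' ∧ AlgSt.RepByAlgSpWith (AlgSp.LocP @Flat) z' := by
  haveI := (singleton_points h𝒵 z hzs).2
  exact ⟨with_surjective_pt h𝒵 z', with_flat_pt h𝒵 (smoothLocally_isReduced h𝒵 z hzs hzf) z'⟩

include h𝒵 in
/-- A reduced locally noetherian one point stack has an fppf field point. -/
theorem exists_fppf_pt (hred : AlgSt.SmoothLocally (fun T => IsReduced T) 𝒵)
    (hn : AlgSt.SmoothLocally (fun T => IsLocallyNoetherian T) 𝒵) [Nonempty (Points 𝒵)]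
    [Subsingleton (Points 𝒵)] :
    ∃ (K : Type u) (_ : Field K) (b : Spec (CommRingCat.of K) ⟶ S) (z : FibCat.overCat (Over.mk b) ⥤ᵇ 𝒵),
      AlgSt.RepByAlgSpWith (AlgSp.LocP @LocallyOfFinitePresentation) z ∧
      AlgSt.RepByAlgSpWith AlgSp.IsSurjectiveMor z ∧ AlgSt.RepByAlgSpWith (AlgSp.LocP @Flat) z := by
  obtain ⟨K, hK, b, z, -, hp⟩ := exists_lft_pt h𝒵
  exact ⟨K, hK, b, z, hp hn, with_surjective_pt h𝒵 z, with_flat_pt h𝒵 hred z⟩

end Groth.Agent.ResGerb16
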