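import Groth.Agent.Lib.ResGerb16.LocImage
import Groth.Agent.Lib.GerbAbs16.Chart
import Groth.Agent.Lib.StAlg16.Setoid
import Groth.Agent.S12768

/-! Algebraicity of the fppf image of a flat groupoid. -/

universe u

open CategoryTheory CategoryTheory.Functor CategoryTheory.Limits AlgebraicGeometry Opposite

set_option linter.style.haveILetI false
set_option linter.unusedSectionVars false
set_option backward.isDefEq.respectTransparency false
set_option backward.isDefEq.respectTransparency.types false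

namespace Groth.Agent.ResGerb16

open Groth.Agent.FC16 hiding overMap
open Groth.Agent.StAlg Groth.Agent.StAlg16 AlgSt

variable {S : Scheme.{u}}

/-- A stack in setoids with an fppf chart is an algebraic space. -/
theorem rep_of_setoid_fppf {𝒳 : AlgSt.Cat S} (h𝒳 : Stk.IsStack (QuotSh.J Scheme.fppfPrecoverage S) 𝒳)
    (hs : FibCat.IsFibSetoid 𝒳.p) {U : Over S} (x : FibCat.overCat U ⥤ᵇ 𝒳)
    (h₁ : AlgSt.RepByAlgSpWith AlgSp.IsSurjectiveMor x) (h₂ : AlgSt.RepByAlgSpWith (AlgSp.LocP @Flat) x)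
    (h₃ : AlgSt.RepByAlgSpWith (AlgSp.LocP @LocallyOfFinitePresentation) x) : AlgSt.RepByAlgSp 𝒳 := by
  obtain ⟨G, e, he⟩ := exists_psh.{u + 1} hs
  have hG : Presieve.IsSheaf (QuotSh.J Scheme.fppfPrecoverage S) G :=
    (isStack_ofPsh_iff _ G).1 ((isStack_iff_of_isEquivOver _ he).2 h𝒳)
  let F : AlgSp.Sp S := ⟨G, (isSheaf_iff_isSheaf_of_type _ _).2 hG⟩
  obtain ⟨e', he', -, ⟨β⟩⟩ := exists_inverse he
  let Φ : AlgSt.ofSch U ⥤ᵇ Stk.ofPsh G := BasedFunctor.comp (BasedFunctor.comp (AlgSt.toOverCat U) x) e'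
  let p : (AlgSp.yon S).obj U ⟶ F := ObjectProperty.homMk (mapOf Φ)
  have key : ∀ {P : MorphismProperty (AlgSp.Sp S)}, PreIso P → AlgSt.RepByAlgSpWith P x →
      AlgSp.RepBySpWith P p.hom := fun {P} hPi h =>
    repBySpWith_of_with hPi ((with_congr (f := x) (f' := Stk.ofPshMap (mapOf Φ)) (a := AlgSt.toOverCat U)
      (b := e) (toOverCat_isEquivOver U) he
      (wrIso (isoMapOf Φ).symm e ≪≫ wlIso (BasedFunctor.comp (AlgSt.toOverCat U) x) β)).1 h)
  have hp : AlgSp.RepBySpWith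
      (AlgSp.IsSurjectiveMor ⊓ AlgSp.LocP @Flat ⊓ AlgSp.LocP @LocallyOfFinitePresentation) p.hom :=
    repBySpWith_inf (repBySpWith_inf (key goodP_surjective.preIso h₁) (key (goodP_locP (P := @Flat)).preIso h₂))
      (key (goodP_locP (P := @LocallyOfFinitePresentation)).preIso h₃)
  exact ⟨⟨F, S10104.result S F ⟨(AlgSp.yon S).obj U, AlgSp.IsAlgSpace.yon_obj U⟩ p hp⟩, e, he⟩

variable {𝒴 : AlgSt.Cat S} (h𝒴 : IsAlgStack Scheme.fppfPrecoverage 𝒴) {W : Over S}
  (z : FibCat.overCat W ⥤ᵇ 𝒴)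

include h𝒴 in
/-- The corestriction to the image has what the groupoid has. -/
theorem with_toLocIm {P : MorphismProperty (AlgSp.Sp S)} (hPb : PbP P)
    (hP : AlgSp.IsLocalOnBase AlgSp.IsFppfCover P) (hzz : AlgSt.RepByAlgSpWith P (FibCat.fpFst z z)) :
    AlgSt.RepByAlgSpWith P (toLocIm z (overCat_isFibGrpd W)) := fun U y => by
  have gY := h𝒴.isStack.1
  have gW := overCat_isFibGrpd W
  haveI := FC16.isFibered gY
  haveI : (AlgSt.subIncl 𝒴 (LocIm z)).toFunctor.Full := inferInstanceAs (ObjectProperty.ι _).Full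
  haveI : (AlgSt.subIncl 𝒴 (LocIm z)).toFunctor.Faithful := inferInstanceAs (ObjectProperty.ι _).Faithful
  let y' := BasedFunctor.comp y (AlgSt.subIncl 𝒴 (LocIm z))
  let π := FibCat.fpFst y' z
  let σ := FibCat.fpSnd y' z
  have gP := fp_isFibGrpd (overCat_isFibGrpd U) gW gY y' z
  have hrep : AlgSt.RepByAlgSp1 π := rep1_fpFst y' ((StAlg.rep1_diag_iff gY).1 h𝒴.diag W z)
  -- the base change of `π` along itself
  have h1 : AlgSt.RepByAlgSpWith P (FibCat.fpFst (BasedFunctor.comp σ z) z) :=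
    (with_congr (f := FibCat.fpFst (BasedFunctor.comp σ z) z) (f' := FibCat.fpFst σ (FibCat.fpFst z z))
      (a := pasteL σ z z) (b := BasedFunctor.id _) (pasteL_isEquivOver _ _ _) isEquivOver_id (Iso.refl _)).2
      (with_fpFst σ hzz)
  haveI := idFun_full (𝒳 := 𝒴)
  haveI := idFun_faithful (𝒳 := 𝒴)
  have h2 : AlgSt.RepByAlgSpWith P (FibCat.fpFst (BasedFunctor.comp π y') z) :=
    (with_congr (f := FibCat.fpFst (BasedFunctor.comp σ z) z) (f' := FibCat.fpFst (BasedFunctor.comp π y') z)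
      (a := fpMap (F := BasedFunctor.comp π y') (G := z) (F' := BasedFunctor.comp σ z) (G' := z)
        (a := BasedFunctor.id _) (b := BasedFunctor.id _) (s := BasedFunctor.id _) (FibCat.fpIso y' z).symm (Iso.refl _))
      (b := BasedFunctor.id _) (fpMap_isEquivOver _ _ isEquivOver_id isEquivOver_id) isEquivOver_id (Iso.refl _)).1 h1
  have h3 : AlgSt.RepByAlgSpWith P (FibCat.fpFst π π) :=
    (with_congr (f := FibCat.fpFst (BasedFunctor.comp π y') z) (f' := FibCat.fpFst π π)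
      (a := pasteL π y' z) (b := BasedFunctor.id _) (pasteL_isEquivOver _ _ _) isEquivOver_id (Iso.refl _)).1 h2
  have hπ : AlgSt.RepByAlgSpWith P π := by
    refine with_of_fpFst_locally_essSurj hPb hP gP (overCat_isFibGrpd U) hrep (g := π) (fun T v => ?_) h3
    let o : Over T := Over.mk (𝟙 T)
    let ξ : 𝒴.obj := y'.obj (v.obj o)
    have hξ : 𝒴.p.obj ξ = T := (BasedFunctor.comp v y').w_obj o
    obtain ⟨R, hR, hR'⟩ := locIm_at (y.obj (v.obj o)).property hξ
    refine ⟨R, hR, fun V g hg => ?_⟩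
    obtain ⟨x, φ, hφ⟩ := hR' g hg
    haveI := hφ
    haveI := FC16.isFibered gW
    have hx : (FibCat.overCat W).p.obj x = V := (z.w_obj x).symm.trans (GerbAbs.domEq hφ)
    let q : FibCat.overCat V ⥤ᵇ FibCat.overCat W := ofObj hx
    let A := BasedFunctor.comp (AlgSt.overMap g) v
    let o' : Over V := Over.mk (𝟙 V)
    let n : (AlgSt.overMap g).obj o' ⟶ o := Over.homMk g (by show g ≫ 𝟙 T = 𝟙 V ≫ g; simp)
    haveI : (FibCat.overCat T).p.IsHomLift g n := IsHomLift.map (FibCat.overCat T).p n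
    haveI h4 : 𝒴.p.IsHomLift g (y'.map (v.map n)) :=
      BasedFunctor.preserves_isHomLift (BasedFunctor.comp v y') g n
    haveI := ofObjIso_lift (𝒳 := FibCat.overCat W) (x := x) hx
    haveI : 𝒴.p.IsHomLift (𝟙 V) (z.map (ofObjIso (x := x) hx).hom) := BasedFunctor.preserves_isHomLift z _ _
    haveI : 𝒴.p.IsHomLift g (z.map (ofObjIso (x := x) hx).hom ≫ φ) := by
      simpa using (inferInstance : 𝒴.p.IsHomLift (𝟙 V ≫ g) (z.map (ofObjIso (x := x) hx).hom ≫ φ))
    obtain ⟨e, he, -⟩ := exists_iso_of_lifts gY g (y'.map (v.map n)) (z.map (ofObjIso (x := x) hx).hom ≫ φ)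
    obtain ⟨i⟩ := GerbAbs.Chart.exists_functor_iso gY (BasedFunctor.comp A y') (BasedFunctor.comp q z) e he
    exact ⟨FibCat.fpLift A q i, ⟨Iso.refl _⟩⟩
  let M := fpMap (F := y) (G := toLocIm z (overCat_isFibGrpd W)) (F' := y') (G' := z)
    (a := BasedFunctor.id _) (b := BasedFunctor.id _) (s := AlgSt.subIncl 𝒴 (LocIm z)) (Iso.refl _) (Iso.refl _)
  have h5 : AlgSt.RepByAlgSpWith P (FibCat.fpFst y (toLocIm z (overCat_isFibGrpd W))) :=
    (with_congr (f := π) (f' := FibCat.fpFst y (toLocIm z (overCat_isFibGrpd W))) (a := M) (b := BasedFunctor.id _)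
      (fpMap_isEquivOver _ _ isEquivOver_id isEquivOver_id) isEquivOver_id (Iso.refl _)).1 hπ
  exact repOf_left (y := BasedFunctor.comp (BasedFunctor.id _) y) (Iso.refl _)
    (repOf_of_equiv (pasteL_isEquivOver (BasedFunctor.id _) y (toLocIm z (overCat_isFibGrpd W))) (Iso.refl _)
      (h5 U (BasedFunctor.id _)))

variable (hzs : AlgSt.RepByAlgSpWith AlgSp.IsSurjectiveMor (FibCat.fpFst z z))
  (hzf : AlgSt.RepByAlgSpWith (AlgSp.LocP @Flat) (FibCat.fpFst z z))
  (hzp : AlgSt.RepByAlgSpWith (AlgSp.LocP @LocallyOfFinitePresentation) (FibCat.fpFst z z))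

theorem isLocalOnBase_surjective : AlgSp.IsLocalOnBase (AlgSp.IsFppfCover (S := S)) AlgSp.IsSurjectiveMor := by
  intro ι Y Yi g _ _ hg X f _ Xi p q _ sq
  refine ⟨fun h i => AlgSpace.surjective_of_isPullback (sq i) h, fun h y => ?_⟩
  obtain ⟨i, yi, rfl⟩ := hg.2 y
  obtain ⟨xi, rfl⟩ := h i yi
  exact ⟨AlgSp.Points.map (q i) xi, by rw [← AlgSp.Points.map_comp, (sq i).w, AlgSp.Points.map_comp]⟩

include h𝒴 hzs hzf hzp in
theorem triple_toLocIm : AlgSt.RepByAlgSpWith AlgSp.IsSurjectiveMor (toLocIm z (overCat_isFibGrpd W)) ∧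
    AlgSt.RepByAlgSpWith (AlgSp.LocP @Flat) (toLocIm z (overCat_isFibGrpd W)) ∧
    AlgSt.RepByAlgSpWith (AlgSp.LocP @LocallyOfFinitePresentation) (toLocIm z (overCat_isFibGrpd W)) :=
  ⟨with_toLocIm h𝒴 z (fun _ _ _ _ _ _ _ _ _ _ _ _ sq h => AlgSpace.surjective_of_isPullback sq h)
      isLocalOnBase_surjective hzs,
    with_toLocIm h𝒴 z (fun _ _ _ _ h₁ h₂ _ h₄ _ _ _ _ sq h => AlgSpace.locP_of_isPullback h₁ h₂ h₄ sq h)
      isLocalOnBase_fppf_locP_flat hzf,
    with_toLocIm h𝒴 z (fun _ _ _ _ h₁ h₂ _ h₄ _ _ _ _ sq h => AlgSpace.locP_of_isPullback h₁ h₂ h₄ sq h)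
      isLocalOnBase_fppf_locP_lfp hzp⟩

include h𝒴 hzs hzf hzp in
/-- The fppf image is an algebraic stack. -/
theorem isAlgStack_locIm : IsAlgStack Scheme.fppfPrecoverage (fullSub 𝒴 (LocIm z)) := by
  have gY := h𝒴.isStack.1
  have hst := locIm_isStack z h𝒴.isStack
  refine Groth.Agent.S12768.result hst.1 h𝒴 (AlgSt.subIncl 𝒴 (LocIm z)) fun U x => ?_
  haveI : (AlgSt.subIncl 𝒴 (LocIm z)).toFunctor.Faithful := inferInstanceAs (ObjectProperty.ι _).Faithful
  let j := AlgSt.subIncl 𝒴 (LocIm z)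
  let z' := toLocIm z (overCat_isFibGrpd W)
  have hst' : Stk.IsStack (QuotSh.J Scheme.fppfPrecoverage S) (FibCat.fp x j) :=
    FC16.isStack_fp (J := QuotSh.J Scheme.fppfPrecoverage S) x j (isAlgStack_overCat U).isStack hst (StAlg.isStack_prestack h𝒴.isStack)
  obtain ⟨E, hE, -, -⟩ := exists_inverse (pasteR_isEquivOver x j z')
  have hA : IsAlgStack Scheme.fppfPrecoverage (FibCat.fp (FibCat.fpSnd x j) z') :=
    StAlg.isAlgStack_of_equiv hE
      (StAlg.isAlgStack_fp h𝒴.isStack h𝒴.diag (isAlgStack_overCat U) (isAlgStack_overCat W) x _)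
  obtain ⟨A, c, hc, hcs⟩ := hA.atlas
  obtain ⟨h₁, h₂, h₃⟩ := triple_toLocIm h𝒴 z hzs hzf hzp
  haveI : (FibCat.fpFst x j).toFunctor.Faithful := ⟨fun {a b φ ψ} h => fp_hom_ext h (by
    have e₁ := fp_w φ
    have e₂ := fp_w ψ
    have h' : φ.hom.fst = ψ.hom.fst := h
    rw [h'] at e₁
    exact j.toFunctor.map_injective ((cancel_epi a.obj.iso.hom).1 (e₁.symm.trans e₂)))⟩
  exact rep_of_setoid_fppf hst'
    (FC16.isFibSetoid_of_faithful (FibCat.fpFst x j) hst'.1 (isFibSetoid_of_rep (rep_overCat U)))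
    (BasedFunctor.comp c (FibCat.fpFst (FibCat.fpSnd x j) z'))
    (with_comp goodP_surjective (overCat_isFibGrpd A) hA.isStack.1 hcs (with_fpFst _ h₁))
    (with_comp goodP_locP (overCat_isFibGrpd A) hA.isStack.1 (with_locP_mono smooth_le_flat hc) (with_fpFst _ h₂))
    (with_comp goodP_locP (overCat_isFibGrpd A) hA.isStack.1 (with_locP_mono smooth_le_lfp hc) (with_fpFst _ h₃))

end Groth.Agent.ResGerb16
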