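import Groth.Agent.Lib.ResGerb16.Image
import Groth.Agent.Lib.ResGerb16.FppfImage

/-! Existence of residual gerbes inside reduced one point stacks. -/

universe u

open CategoryTheory CategoryTheory.Functor CategoryTheory.Limits AlgebraicGeometry Opposite

set_option linter.style.haveILetI false
set_option linter.unusedSectionVars false
set_option backward.isDefEq.respectTransparency false
set_option backward.isDefEq.respectTransparency.types false

namespace Groth.Agent.ResGerb16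

open Groth.Agent.FC16 hiding overMap
open Groth.Agent.StAlg Groth.Agent.StAlg16 AlgSt

variable {S : Scheme.{u}} {k : Type u} [Field k] {a : Spec (CommRingCat.of k) ⟶ S}

/-- Finite type over a field is finite presentation. -/
theorem locP_lfp_of_lft {F : AlgSp.Sp S} {f : F ⟶ (AlgSp.yon S).obj (Over.mk a)}
    (hf : AlgSp.LocP @LocallyOfFiniteType f) : AlgSp.LocP @LocallyOfFinitePresentation f := by
  intro U V c b h hc hb w
  obtain ⟨b', rfl⟩ := (AlgSp.yon S).map_surjective b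
  haveI : Etale b'.left := (AlgSp.repWith_yon_map_iff _ _).1 hb
  haveI : IsLocallyNoetherian (Over.mk a).left :=
    inferInstanceAs (IsLocallyNoetherian (Spec (CommRingCat.of k)))
  haveI : IsLocallyNoetherian V.left := LocallyOfFiniteType.isLocallyNoetherian b'.left
  exact LocallyOfFinitePresentation.iff_locallyOfFiniteType.2 (hf c _ h hc hb w)

theorem with_lfp_of_lft {𝒳 : AlgSt.Cat S} (h𝒳 : FibCat.IsFibGrpd 𝒳.p) {f : 𝒳 ⥤ᵇ FibCat.overCat (Over.mk a)}
    (hf : AlgSt.RepByAlgSpWith (AlgSp.LocP @LocallyOfFiniteType) f) :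
    AlgSt.RepByAlgSpWith (AlgSp.LocP @LocallyOfFinitePresentation) f := by
  let K : Over S := Over.mk a
  let W : AlgSp.Space S := ⟨_, AlgSp.IsAlgSpace.yon_obj K⟩
  let w : AlgSt.ofSp W.obj ⥤ᵇ FibCat.overCat K := BasedFunctor.comp (AlgSt.toOverCat K) (AlgSt.overMap (𝟙 K))
  obtain ⟨V, b, e, he, hi, hb⟩ := exists_baseChange_space
    (fun _ _ _ _ h₁ h₂ _ h₄ _ _ _ _ sq h => AlgSpace.locP_of_isPullback h₁ h₂ h₄ sq h)
    (StAlg.isLocalOnBase_fppf_of_fpqc (AlgSpDescent.isLocalOnBase_fpqc_locP AlgSpDescent.precompEtale_lft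
      AlgSpDescent.descendsEtaleSource_locallyOfFiniteType))
    h𝒳 (overCat_isFibGrpd K) hf W w
  haveI : Surjective (𝟙 K : K ⟶ K).left := inferInstanceAs (Surjective (𝟙 K.left))
  exact (with_iff_baseChange_cover
    (fun _ _ _ _ h₁ h₂ _ h₄ _ _ _ _ sq h => AlgSpace.locP_of_isPullback h₁ h₂ h₄ sq h)
    isLocalOnBase_fppf_locP_lfp h𝒳 (overCat_isFibGrpd K) (repByAlgSp1_of_with hf) W w
    (with_toOverCat_comp (with_locP_overMap (𝟙 K) (inferInstanceAs (Flat (𝟙 K.left)))))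
    (with_toOverCat_comp (with_locP_overMap (𝟙 K) (inferInstanceAs (LocallyOfFinitePresentation (𝟙 K.left)))))
    (with_toOverCat_comp (GerbAbs.Chart.with_surjective_overMap (𝟙 K) ‹_›))).2
    ⟨V, b, e, he, hi, locP_lfp_of_lft hb⟩

variable {𝒵 : AlgSt.Cat S}

/-- A reduced one point stack contains a reduced locally noetherian one point substack. -/
theorem exists_image_substack (h𝒵 : IsAlgStack Scheme.fppfPrecoverage 𝒵)
    (hred : AlgSt.SmoothLocally (fun T => IsReduced T) 𝒵) [Nonempty (Points 𝒵)] [Subsingleton (Points 𝒵)] :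
    ∃ Q : 𝒵.obj → Prop, ObjectProperty.IsClosedUnderIsomorphisms Q ∧
      IsAlgStack Scheme.fppfPrecoverage (AlgSt.fullSub 𝒵 Q) ∧
      ∃ (K : Type u) (_ : Field K) (b : Spec (CommRingCat.of K) ⟶ S)
        (z : FibCat.overCat (Over.mk b) ⥤ᵇ AlgSt.fullSub 𝒵 Q),
        AlgSt.RepByAlgSpWith (AlgSp.LocP @LocallyOfFinitePresentation) z ∧
          AlgSt.RepByAlgSpWith AlgSp.IsSurjectiveMor z ∧ AlgSt.RepByAlgSpWith (AlgSp.LocP @Flat) z := by
  obtain ⟨K, hK, b, z, hz, -⟩ := exists_lft_pt h𝒵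
  have hzs := with_fpFst z (with_surjective_pt h𝒵 z)
  have hzf := with_fpFst z (with_flat_pt h𝒵 hred z)
  have hzp := with_lfp_of_lft (fp_isFibGrpd (overCat_isFibGrpd _) (overCat_isFibGrpd _) h𝒵.isStack.1 z z)
    (with_fpFst z hz)
  obtain ⟨h₁, h₂, h₃⟩ := triple_toLocIm h𝒵 z hzs hzf hzp
  exact ⟨LocIm z, locIm_closedUnderIso z h𝒵.isStack.1, isAlgStack_locIm h𝒵 z hzs hzf hzp, K, hK, b,
    toLocIm z (overCat_isFibGrpd _), h₃, h₁, h₂⟩

theorem isMono_subIncl {Q : 𝒵.obj → Prop} (h𝒵 : IsAlgStack Scheme.fppfPrecoverage 𝒵)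
    (hA : IsAlgStack Scheme.fppfPrecoverage (AlgSt.fullSub 𝒵 Q)) : AlgSt.IsMono (AlgSt.subIncl 𝒵 Q) := by
  haveI : (AlgSt.subIncl 𝒵 Q).toFunctor.Full := inferInstanceAs (ObjectProperty.ι _).Full
  haveI : (AlgSt.subIncl 𝒵 Q).toFunctor.Faithful := inferInstanceAs (ObjectProperty.ι _).Faithful
  exact isMono_of_fullyFaithful hA h𝒵 _

end Groth.Agent.ResGerb16
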