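import Groth.Agent.Lib.ResGerb16.Mono
import Groth.Prelude.Def_StGerb

/-! Factorisations through residual gerbes. -/

universe u

open CategoryTheory CategoryTheory.Functor CategoryTheory.Limits AlgebraicGeometry Opposite

set_option linter.style.haveILetI false
set_option linter.unusedSectionVars false
set_option backward.isDefEq.respectTransparency false
set_option backward.isDefEq.respectTransparency.types false

namespace Groth.Agent.ResGerb16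

open Groth.Agent.FC16 hiding overMap
open Groth.Agent.StAlg Groth.Agent.StAlg16 AlgSt

variable {S : Scheme.{u}} {𝒵 𝒴 : AlgSt.Cat S}

/-- A reduced locally noetherian one point stack factors through every substack meeting its image. -/
theorem mem_of_points (h𝒵 : IsAlgStack Scheme.fppfPrecoverage 𝒵) (h𝒴 : IsAlgStack Scheme.fppfPrecoverage 𝒴)
    (hred : AlgSt.SmoothLocally (fun T => IsReduced T) 𝒵)
    (hn : AlgSt.SmoothLocally (fun T => IsLocallyNoetherian T) 𝒵) [Subsingleton (Points 𝒵)]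
    (j : 𝒵 ⥤ᵇ 𝒴) (Q : 𝒴.obj → Prop) (hQ : ObjectProperty.IsClosedUnderIsomorphisms Q)
    (hA : IsAlgStack Scheme.fppfPrecoverage (AlgSt.fullSub 𝒴 Q)) (p : Points 𝒵)
    (w : Points (AlgSt.fullSub 𝒴 Q)) (h : Points.map j p = Points.map (AlgSt.subIncl 𝒴 Q) w) (ξ : 𝒵.obj) :
    Q (j.obj ξ) := by
  haveI : Nonempty (Points 𝒵) := ⟨p⟩
  haveI : (AlgSt.subIncl 𝒴 Q).toFunctor.Full := inferInstanceAs (ObjectProperty.ι Q).Full
  haveI : (AlgSt.subIncl 𝒴 Q).toFunctor.Faithful := inferInstanceAs (ObjectProperty.ι Q).Faithful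
  have hm := isMono_of_fullyFaithful hA h𝒴 (AlgSt.subIncl 𝒴 Q)
  have hM := StAlg.isAlgStack_fp h𝒴.isStack h𝒴.diag h𝒵 hA j (AlgSt.subIncl 𝒴 Q)
  obtain ⟨m, -, -⟩ := exists_fp_point hA.isStack.1 h𝒴.isStack.1 h𝒵.isStack.1 (AlgSt.subIncl 𝒴 Q) j p w h
  haveI : Nonempty (Points (FibCat.fp j (AlgSt.subIncl 𝒴 Q))) := ⟨m⟩
  obtain ⟨K, hK, b, z, hzp, hzs, hzf⟩ := exists_fppf_pt h𝒵 hred hn
  have he := isEquivOver_of_isMono hM h𝒵 (f := FibCat.fpFst j (AlgSt.subIncl 𝒴 Q))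
    (with_fpFst j hm) z hzp hzs hzf
  obtain ⟨c, e, -⟩ := essSurjOver_of_isEquivOver he ξ
  exact hQ.of_iso (c.obj.iso.symm ≪≫ j.toFunctor.mapIso e) c.obj.snd.property

/-- Residual gerbes at a point are unique. -/
theorem isResGerbe_iff (h𝒴 : IsAlgStack Scheme.fppfPrecoverage 𝒴) {x : Points 𝒴} {Q Q' : 𝒴.obj → Prop}
    (h : Gerb.IsResGerbe Scheme.fppfPrecoverage 𝒴 x Q) (h' : Gerb.IsResGerbe Scheme.fppfPrecoverage 𝒴 x Q')
    (ξ : 𝒴.obj) : Q ξ ↔ Q' ξ := by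
  obtain ⟨hi, hA, hr, hn, ⟨p⟩, hs, hx⟩ := h
  obtain ⟨hi', hA', hr', hn', ⟨p'⟩, hs', hx'⟩ := h'
  refine ⟨fun hξ => ?_, fun hξ => ?_⟩
  · exact @mem_of_points _ _ _ hA h𝒴 hr hn hs (AlgSt.subIncl 𝒴 Q) Q' hi' hA' p p'
      ((hx p).trans (hx' p').symm) ⟨ξ, hξ⟩
  · exact @mem_of_points _ _ _ hA' h𝒴 hr' hn' hs' (AlgSt.subIncl 𝒴 Q') Q hi hA p' p
      ((hx' p').trans (hx p).symm) ⟨ξ, hξ⟩

/-- The induced morphism of residual gerbes. -/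
theorem exists_map {𝒳 : AlgSt.Cat S} (h𝒴 : IsAlgStack Scheme.fppfPrecoverage 𝒴) (f : 𝒳 ⥤ᵇ 𝒴) {x : Points 𝒳}
    {Q : 𝒳.obj → Prop} (hQ : Gerb.IsResGerbe Scheme.fppfPrecoverage 𝒳 x Q) {Q' : 𝒴.obj → Prop}
    (hQ' : Gerb.IsResGerbe Scheme.fppfPrecoverage 𝒴 (Points.map f x) Q') :
    ∃ g : AlgSt.fullSub 𝒳 Q ⥤ᵇ AlgSt.fullSub 𝒴 Q',
      Nonempty (BasedFunctor.comp g (AlgSt.subIncl 𝒴 Q') ≅ BasedFunctor.comp (AlgSt.subIncl 𝒳 Q) f) := by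
  obtain ⟨-, hA, hr, hn, ⟨p⟩, hs, hx⟩ := hQ
  obtain ⟨hi', hA', -, -, ⟨p'⟩, -, hx'⟩ := hQ'
  let j := BasedFunctor.comp (AlgSt.subIncl 𝒳 Q) f
  have hj : ∀ ξ, Q' (j.obj ξ) := fun ξ => @mem_of_points _ _ _ hA h𝒴 hr hn hs j Q' hi' hA' p p'
    (by rw [map_comp_apply, hx p, hx' p']) ξ
  let g : AlgSt.fullSub 𝒳 Q ⥤ᵇ AlgSt.fullSub 𝒴 Q' :=
    { toFunctor := ObjectProperty.lift Q' j.toFunctor hj
      w := j.w }
  exact ⟨g, ⟨BasedNatIso.mkNatIso (NatIso.ofComponents (fun ξ => Iso.refl _) (fun {a b} φ => by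
    show f.map φ.hom ≫ 𝟙 _ = 𝟙 _ ≫ f.map φ.hom
    simp)) (fun ξ => IsHomLift.id (j.w_obj ξ))⟩⟩

end Groth.Agent.ResGerb16
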