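import Groth.Agent.Lib.GerbAbs16.Basic
import Groth.Agent.Lib.StAlg16.OpenSub

/-! The substack of objects locally in the image of a functor. -/

universe u

open CategoryTheory CategoryTheory.Functor CategoryTheory.Limits AlgebraicGeometry Opposite

set_option linter.style.haveILetI false
set_option linter.unusedSectionVars false
set_option backward.isDefEq.respectTransparency false
set_option backward.isDefEq.respectTransparency.types false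

namespace Groth.Agent.ResGerb16

open Groth.Agent.FC16 hiding overMap
open Groth.Agent.StAlg Groth.Agent.StAlg16 AlgSt

variable {S : Scheme.{u}} {𝒳 𝒴 : AlgSt.Cat S}

local notation "Jf" => QuotSh.J Scheme.fppfPrecoverage S

/-- The object is fppf locally in the image of `f`. -/
def LocIm (f : 𝒳 ⥤ᵇ 𝒴) (ξ : 𝒴.obj) : Prop :=
  ∃ R ∈ (QuotSh.J Scheme.fppfPrecoverage S) (𝒴.p.obj ξ), ∀ ⦃V : Over S⦄ (g : V ⟶ 𝒴.p.obj ξ), R g →
    ∃ (x : 𝒳.obj) (φ : f.obj x ⟶ ξ), 𝒴.p.IsHomLift g φ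

theorem locIm_obj (f : 𝒳 ⥤ᵇ 𝒴) (h𝒳 : FibCat.IsFibGrpd 𝒳.p) (x : 𝒳.obj) : LocIm f (f.obj x) := by
  refine ⟨⊤, GrothendieckTopology.top_mem _ _, fun V g _ => ?_⟩
  obtain ⟨x', m, hm⟩ := FC16.exists_lift h𝒳 (x := x) (f.w_obj x).symm g
  haveI := hm
  exact ⟨x', f.map m, BasedFunctor.preserves_isHomLift f g m⟩

theorem locIm_of_hom (f : 𝒳 ⥤ᵇ 𝒴) (h𝒴 : FibCat.IsFibGrpd 𝒴.p) {ξ η : 𝒴.obj} (m : ξ ⟶ η) (h : LocIm f η) :
    LocIm f ξ := by
  obtain ⟨R, hR, hR'⟩ := h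
  refine ⟨R.pullback (𝒴.p.map m), GrothendieckTopology.pullback_stable _ _ hR, fun V g hg => ?_⟩
  obtain ⟨x, φ, hφ⟩ := hR' (g ≫ 𝒴.p.map m) hg
  haveI := hφ
  haveI : 𝒴.p.IsHomLift (𝒴.p.map m) m := IsHomLift.map _ m
  haveI := FC16.isStronglyCartesian h𝒴 (𝒴.p.map m) m
  exact ⟨x, IsStronglyCartesian.map 𝒴.p (𝒴.p.map m) m (g := g) rfl φ, inferInstance⟩

theorem locIm_closedUnderIso (f : 𝒳 ⥤ᵇ 𝒴) (h𝒴 : FibCat.IsFibGrpd 𝒴.p) :
    ObjectProperty.IsClosedUnderIsomorphisms (LocIm f) := ⟨fun i h => locIm_of_hom f h𝒴 i.inv h⟩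

theorem locIm_at {f : 𝒳 ⥤ᵇ 𝒴} {ξ : 𝒴.obj} (h : LocIm f ξ) {U : Over S} (e : 𝒴.p.obj ξ = U) :
    ∃ R ∈ Jf U, ∀ ⦃V : Over S⦄ (g : V ⟶ U), R g → ∃ (x : 𝒳.obj) (φ : f.obj x ⟶ ξ), 𝒴.p.IsHomLift g φ := by
  subst e; exact h

theorem locIm_of_locally (f : 𝒳 ⥤ᵇ 𝒴) {ξ : 𝒴.obj} {R : Sieve (𝒴.p.obj ξ)} (hR : R ∈ Jf (𝒴.p.obj ξ))
    (h : ∀ ⦃V : Over S⦄ (g : V ⟶ 𝒴.p.obj ξ), R g → ∃ (η : 𝒴.obj) (φ : η ⟶ ξ),
      𝒴.p.IsHomLift g φ ∧ LocIm f η) : LocIm f ξ := by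
  choose η φ hφ hη using h
  have h' : ∀ ⦃V : Over S⦄ (g : V ⟶ 𝒴.p.obj ξ) (hg : R g), ∃ R' ∈ Jf V, ∀ ⦃W : Over S⦄ (k : W ⟶ V), R' k →
      ∃ (x : 𝒳.obj) (ψ : f.obj x ⟶ η g hg), 𝒴.p.IsHomLift k ψ := fun V g hg => by
    exact locIm_at (hη g hg) (GerbAbs.domEq (hφ g hg))
  choose R' hR' hR'' using h'
  refine ⟨Sieve.bind R.arrows fun V g hg => R' g hg, GrothendieckTopology.bind_covering _ hR
    fun V g hg => hR' g hg, ?_⟩
  rintro W k' ⟨V, k, g, hg, hk, rfl⟩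
  obtain ⟨x, ψ, hψ⟩ := hR'' g hg k hk
  haveI := hψ
  haveI := hφ g hg
  exact ⟨x, ψ ≫ φ g hg, inferInstance⟩

theorem locIm_isStack (f : 𝒳 ⥤ᵇ 𝒴) (h𝒴 : Stk.IsStack Jf 𝒴) :
    Stk.IsStack (QuotSh.J Scheme.fppfPrecoverage S) (fullSub 𝒴 (LocIm f)) := by
  refine ⟨fullSub_isFibGrpd h𝒴.1 (fun φ h => locIm_of_hom f h𝒴.1 φ h), fun U R hR => ?_⟩
  haveI : (Stk.resSieve R 𝒴).IsEquivalence := h𝒴.2 R hR
  let ι := Stk.sieveIncl R
  let j := subIncl 𝒴 (LocIm f)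
  haveI : (Stk.resSieve R (fullSub 𝒴 (LocIm f))).Faithful := ⟨fun {G H α β} e => by
    have : BasedCategory.whiskerRight α j = BasedCategory.whiskerRight β j :=
      (Stk.resSieve R 𝒴).map_injective (congrArg (fun γ => BasedCategory.whiskerRight γ j) e)
    apply BasedNatTrans.homCategory.ext
    apply NatTrans.ext
    funext z
    exact ObjectProperty.hom_ext _ (congrArg (fun δ => δ.toNatTrans.app z) this)⟩
  haveI : (Stk.resSieve R (fullSub 𝒴 (LocIm f))).Full := ⟨fun {G H} γ => by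
    obtain ⟨α, hα⟩ := (Stk.resSieve R 𝒴).map_surjective (X := BasedFunctor.comp G j) (Y := BasedFunctor.comp H j)
      (BasedCategory.whiskerRight γ j)
    refine ⟨{ toNatTrans :=
                { app := fun z => ObjectProperty.homMk (α.toNatTrans.app z)
                  naturality := fun z z' g => ObjectProperty.hom_ext _ (α.toNatTrans.naturality g) }
              isHomLift' := fun z => (fullSub_isHomLift_iff _ _).2 (α.isHomLift' z) }, ?_⟩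
    apply BasedNatTrans.homCategory.ext
    apply NatTrans.ext
    funext z
    exact ObjectProperty.hom_ext _ (congrArg (fun δ => δ.toNatTrans.app z) hα)⟩
  haveI : (Stk.resSieve R (fullSub 𝒴 (LocIm f))).EssSurj := ⟨fun t => by
    let a := (Stk.resSieve R 𝒴).objPreimage (BasedFunctor.comp t j)
    let i : BasedFunctor.comp ι a ≅ BasedFunctor.comp t j := (Stk.resSieve R 𝒴).objObjPreimageIso _
    have htop : LocIm f (a.obj (Over.mk (𝟙 U))) := by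
      let R₁ : Sieve (𝒴.p.obj (a.obj (Over.mk (𝟙 U)))) := R.pullback (eqToHom (a.w_obj (Over.mk (𝟙 U))))
      refine locIm_of_locally f (R := R₁) (GrothendieckTopology.pullback_stable _ _ hR) fun V g hg => ?_
      let g' : V ⟶ U := g ≫ eqToHom (a.w_obj (Over.mk (𝟙 U)))
      let s : (Stk.sieveCat R).obj := ⟨Over.mk g', hg⟩
      let n : (Over.mk g' : Over U) ⟶ Over.mk (𝟙 U) := Over.homMk g' (Category.comp_id _)
      refine ⟨a.obj (Over.mk g'), a.map n, ?_, locIm_of_hom f h𝒴.1 (appIso i s).hom (t.obj s).property⟩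
      haveI : (FibCat.overCat U).p.IsHomLift g' n := IsHomLift.map (FibCat.overCat U).p n
      haveI := BasedFunctor.preserves_isHomLift a g' n
      exact IsHomLift.of_fac' _ _ _ (a.w_obj _) rfl (by
        rw [IsHomLift.fac' 𝒴.p g' (a.map n)]
        simp [g'])
    let a' : FibCat.overCat U ⥤ᵇ fullSub 𝒴 (LocIm f) :=
      { toFunctor := ObjectProperty.lift _ a.toFunctor fun b => locIm_of_hom f h𝒴.1
          (a.map (show b ⟶ Over.mk (𝟙 U) from Over.homMk b.hom (Category.comp_id _))) htop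
        w := a.w }
    exact ⟨a', ⟨BasedNatIso.mkNatIso
      (NatIso.ofComponents (fun z => ObjectProperty.isoMk _ (appIso i z))
        (fun g => ObjectProperty.hom_ext _ (i.hom.toNatTrans.naturality g)))
      (fun z => (fullSub_isHomLift_iff _ _).2 (isHomLift_appIso_hom i z rfl))⟩⟩⟩
  exact { }

/-- The corestriction to the local image. -/
def toLocIm (f : 𝒳 ⥤ᵇ 𝒴) (h𝒳 : FibCat.IsFibGrpd 𝒳.p) : 𝒳 ⥤ᵇ fullSub 𝒴 (LocIm f) where
  toFunctor := ObjectProperty.lift _ f.toFunctor fun x => locIm_obj f h𝒳 x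
  w := f.w

theorem locSurjObj_toLocIm (f : 𝒳 ⥤ᵇ 𝒴) (h𝒳 : FibCat.IsFibGrpd 𝒳.p) :
    Gerb.LocSurjObj (QuotSh.J Scheme.fppfPrecoverage S) (toLocIm f h𝒳) := by
  intro ξ
  obtain ⟨R, hR, hR'⟩ := ξ.property
  refine ⟨R, hR, fun V g hg => ?_⟩
  obtain ⟨x, φ, hφ⟩ := hR' g hg
  exact ⟨x, ObjectProperty.homMk φ, (fullSub_isHomLift_iff _ _).2 hφ⟩

end Groth.Agent.ResGerb16
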