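import Groth.Agent.Lib.ResGerb16.Basic
import Groth.Agent.Lib.GerbAbs16.Chart
import Groth.Agent.Lib.GerbAbs16.FFEss
import Groth.Agent.Lib.StAlg16.Mono
import Groth.Agent.Lib.Residual14.Main

/-! Field points and monomorphisms. -/

universe u

open CategoryTheory CategoryTheory.Functor CategoryTheory.Limits AlgebraicGeometry Opposite

set_option linter.style.haveILetI false
set_option linter.unusedSectionVars false
set_option backward.isDefEq.respectTransparency false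
set_option backward.isDefEq.respectTransparency.types false

namespace Groth.Agent.ResGerb16

open Groth.Agent.FC16 hiding overMap
open Groth.Agent.StAlg Groth.Agent.StAlg16 AlgSt

variable {S : Scheme.{u}} {𝒳 𝒴 : AlgSt.Cat S} {k : Type u} [Field k] {a : Spec (CommRingCat.of k) ⟶ S}

/-- A nonempty space with a monomorphism to a field is that field. -/
theorem isIso_of_mono_pt {F : AlgSp.Sp S} (hF : AlgSp.IsAlgSpace F) [Nonempty (AlgSp.Points F)]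
    (m : F ⟶ (AlgSp.yon S).obj (Over.mk a)) [Mono m] : IsIso m := by
  haveI := subsingleton_left a
  haveI : DiscreteTopology ↥(Over.mk a).left := inferInstance
  obtain ⟨Y, ⟨e⟩⟩ := AlgSpDecent.exists_yon_iso_of_isRepresentable
    (AlgSpDecent.isRepresentable_of_mono_discrete ⟨F, hF⟩ m)
  obtain ⟨d, hd⟩ := (AlgSp.yon S).map_surjective (e.hom ≫ m)
  haveI : Mono ((AlgSp.yon S).map d) := hd ▸ mono_comp _ _
  haveI := AlgSpDecent.mono_left d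
  obtain ⟨w⟩ := ‹Nonempty (AlgSp.Points F)›
  haveI : Nonempty Y.left := ⟨(AlgSp.Points.schemeEquiv Y).symm (AlgSp.Points.map e.inv w)⟩
  haveI : IsIso ((Over.forget S).map d) := AlgSpace.isIso_of_mono_field (K := k) d.left
  haveI : IsIso d := isIso_of_reflects_iso d (Over.forget S)
  haveI : IsIso (e.hom ≫ m) := hd ▸ inferInstance
  exact IsIso.of_isIso_comp_left e.hom m

/-- A field point in the image of a monomorphism lifts. -/
theorem exists_lift_of_mono (h𝒳 : IsAlgStack Scheme.fppfPrecoverage 𝒳) (h𝒴 : IsAlgStack Scheme.fppfPrecoverage 𝒴)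
    {f : 𝒳 ⥤ᵇ 𝒴} (hf : AlgSt.IsMono f) (z : FibCat.overCat (Over.mk a) ⥤ᵇ 𝒴) (p : Points 𝒳)
    (hp : Points.map z (Points.mk (chartPt (Over.mk a) (IsLocalRing.closedPoint k))) = Points.map f p) :
    ∃ q : FibCat.overCat (Over.mk a) ⥤ᵇ 𝒳, Nonempty (BasedFunctor.comp q f ≅ z) := by
  have gX := h𝒳.isStack.1
  have gY := h𝒴.isStack.1
  obtain ⟨F, e, he, hm⟩ := hf (Over.mk a) z
  let Φ := BasedFunctor.comp e (FibCat.fpFst z f)
  haveI : Mono (AlgSt.spMapOfOver Φ) := hm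
  obtain ⟨w, -, -⟩ := exists_fp_point gX gY (overCat_isFibGrpd _) f z _ p hp
  obtain ⟨w', -⟩ := (map_bijective he).2 w
  haveI : Nonempty (AlgSp.Points F.obj) := ⟨spPts w'⟩
  haveI := isIso_of_mono_pt F.property (AlgSt.spMapOfOver Φ)
  let T : Over S := Over.mk a
  obtain ⟨s, hs⟩ : ∃ s : F.obj.obj.obj (op T), AlgSt.secHom Φ ⟨T, s⟩ = 𝟙 T := by
    let i := (sheafToPresheaf (AlgSp.J S) _).mapIso (asIso (AlgSt.spMapOfOver Φ))
    obtain ⟨s, hs⟩ := (i.app (op T)).toEquiv.surjective ⟨𝟙 T⟩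
    exact ⟨s, congrArg ULift.down hs⟩
  let c : (FibCat.fp z f).obj := e.obj ⟨T, s⟩
  have hc₁ : c.obj.fst.left = T := Φ.w_obj ⟨T, s⟩
  have hc₂ : 𝒳.p.obj c.obj.snd = T := by
    have h := snd_p c
    rw [h]
    exact hc₁
  haveI := FC16.isFibered gX
  have hh : eqToHom hc₁.symm ≫ c.obj.fst.hom = 𝟙 T := hs
  let l : c.obj.fst ≅ Over.mk (𝟙 T) := Over.isoMk (eqToIso hc₁) (by
    show eqToHom hc₁ ≫ 𝟙 T = c.obj.fst.hom
    rw [← hh, eqToHom_trans_assoc, eqToHom_refl, Category.id_comp])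
  haveI hl : (FibCat.overCat T).p.IsHomLift (𝟙 T) l.hom :=
    IsHomLift.of_fac' _ _ _ hc₁ rfl (by
      show eqToHom hc₁ = eqToHom hc₁ ≫ 𝟙 T ≫ eqToHom rfl
      simp)
  haveI := iso_lift c (U := T) hc₁
  haveI := ofObjIso_lift (𝒳 := 𝒳) (x := c.obj.snd) hc₂
  haveI : 𝒴.p.IsHomLift (𝟙 T) (z.map l.hom) := BasedFunctor.preserves_isHomLift z _ _
  haveI : 𝒴.p.IsHomLift (𝟙 T) (f.map (ofObjIso (x := c.obj.snd) hc₂).hom) :=
    BasedFunctor.preserves_isHomLift f _ _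
  exact ⟨ofObj hc₂, GerbAbs.Chart.exists_functor_iso gY _ z
    (f.toFunctor.mapIso (ofObjIso hc₂) ≪≫ c.obj.iso.symm ≪≫ z.toFunctor.mapIso l)
    (by
      show 𝒴.p.IsHomLift (𝟙 T) (f.map (ofObjIso hc₂).hom ≫ c.obj.iso.inv ≫ z.map l.hom)
      simpa using (inferInstance : 𝒴.p.IsHomLift (𝟙 T ≫ 𝟙 T ≫ 𝟙 T)
        (f.map (ofObjIso hc₂).hom ≫ c.obj.iso.inv ≫ z.map l.hom)))⟩

/-- A surjection of stacks after a flat locally finitely presented surjection. -/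
theorem locSurjObj_of_lift (h𝒳 : FibCat.IsFibGrpd 𝒳.p) (h𝒴 : FibCat.IsFibGrpd 𝒴.p) {W : Over S}
    {z : FibCat.overCat W ⥤ᵇ 𝒴} (hzp : AlgSt.RepByAlgSpWith (AlgSp.LocP @LocallyOfFinitePresentation) z)
    (hzs : AlgSt.RepByAlgSpWith AlgSp.IsSurjectiveMor z) (hzf : AlgSt.RepByAlgSpWith (AlgSp.LocP @Flat) z)
    {f : 𝒳 ⥤ᵇ 𝒴} {q : FibCat.overCat W ⥤ᵇ 𝒳} (i : BasedFunctor.comp q f ≅ z) :
    Gerb.LocSurjObj (QuotSh.J Scheme.fppfPrecoverage S) f := by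
  intro y
  haveI := FC16.isFibered h𝒴
  obtain ⟨T', κ, m, hc, ⟨im⟩⟩ := exists_cover_lift h𝒴 (overCat_isFibGrpd W) hzf hzp hzs (𝒴.p.obj y) (ofObj rfl)
  haveI : Flat κ.left := (locP_yon_iff κ).1 (hc.1 PUnit.unit).1
  haveI : LocallyOfFinitePresentation κ.left := (locP_yon_iff κ).1 (hc.1 PUnit.unit).2
  haveI : Surjective κ.left := ⟨fun t => by
    obtain ⟨_, p, hp⟩ := hc.2 (AlgSp.Points.schemeHomeo _ t)
    obtain ⟨s, rfl⟩ := (AlgSp.Points.schemeHomeo T').surjective p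
    exact ⟨s, (AlgSp.Points.schemeHomeo _).injective ((AlgSp.Points.map_yon_map_apply κ s).symm.trans hp)⟩⟩
  refine ⟨Sieve.generate (Presieve.singleton κ),
    GerbAbs.Chart.mem_of_cover κ (Sieve.le_generate _ _ _ (Presieve.singleton_self κ)), fun V g hg => ?_⟩
  obtain ⟨_, l, _, ⟨⟩, rfl⟩ := hg
  let o : Over V := Over.mk (𝟙 V)
  let x' : FibCat.overCat V ⥤ᵇ 𝒳 := BasedFunctor.comp (BasedFunctor.comp (AlgSt.overMap l) m) q
  let j : BasedFunctor.comp x' f ≅ BasedFunctor.comp (AlgSt.overMap (l ≫ κ)) (ofObj (𝒳 := 𝒴) (x := y) rfl) :=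
    wlIso (BasedFunctor.comp (AlgSt.overMap l) m) i ≪≫ wlIso (AlgSt.overMap l) im.symm ≪≫
      wrIso (overMapComp l κ) (ofObj rfl)
  let n : (AlgSt.overMap (l ≫ κ)).obj o ⟶ Over.mk (𝟙 (𝒴.p.obj y)) :=
    Over.homMk (l ≫ κ) (by show (l ≫ κ) ≫ 𝟙 _ = 𝟙 V ≫ l ≫ κ; simp)
  let x := ofObj (𝒳 := 𝒴) (x := y) (U := 𝒴.p.obj y) rfl
  haveI : (FibCat.overCat (𝒴.p.obj y)).p.IsHomLift (l ≫ κ) n :=
    IsHomLift.map (FibCat.overCat (𝒴.p.obj y)).p n
  haveI : 𝒴.p.IsHomLift (l ≫ κ) (x.map n) := BasedFunctor.preserves_isHomLift x (l ≫ κ) n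
  haveI : 𝒴.p.IsHomLift (𝟙 V) (appIso j o).hom := isHomLift_appIso_hom j o rfl
  haveI := ofObjIso_lift (𝒳 := 𝒴) (x := y) (U := 𝒴.p.obj y) rfl
  refine ⟨x'.obj o, (appIso j o).hom ≫ x.map n ≫ (ofObjIso (𝒳 := 𝒴) (x := y) rfl).hom, ?_⟩
  simpa using (inferInstance : 𝒴.p.IsHomLift (𝟙 V ≫ (l ≫ κ) ≫ 𝟙 _)
    ((appIso j o).hom ≫ x.map n ≫ (ofObjIso (𝒳 := 𝒴) (x := y) rfl).hom))

/-- A monomorphism to a one point stack with an fppf field point is an equivalence. -/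
theorem isEquivOver_of_isMono (h𝒳 : IsAlgStack Scheme.fppfPrecoverage 𝒳)
    (h𝒴 : IsAlgStack Scheme.fppfPrecoverage 𝒴) {f : 𝒳 ⥤ᵇ 𝒴} (hf : AlgSt.IsMono f) [Nonempty (Points 𝒳)]
    (z : FibCat.overCat (Over.mk a) ⥤ᵇ 𝒴)
    (hzp : AlgSt.RepByAlgSpWith (AlgSp.LocP @LocallyOfFinitePresentation) z)
    (hzs : AlgSt.RepByAlgSpWith AlgSp.IsSurjectiveMor z) (hzf : AlgSt.RepByAlgSpWith (AlgSp.LocP @Flat) z) :
    FibCat.IsEquivOver f := by
  haveI := (singleton_points h𝒴 z hzs).2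
  obtain ⟨p⟩ := ‹Nonempty (Points 𝒳)›
  obtain ⟨q, ⟨i⟩⟩ := exists_lift_of_mono h𝒳 h𝒴 hf z p (Subsingleton.elim _ _)
  obtain ⟨h₁, h₂⟩ := fullyFaithful_of_isMono h𝒳.isStack.1 h𝒴.isStack.1 f hf
  haveI := FC16.isFibered h𝒳.isStack.1
  haveI := FC16.isFibered h𝒴.isStack.1
  exact FC16.isEquivOver_of _ (GerbAbs.essSurjOver_of_locally h𝒳.isStack (StAlg.isStack_prestack h𝒴.isStack) f
    (locSurjObj_of_lift h𝒳.isStack.1 h𝒴.isStack.1 hzp hzs hzf i))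

end Groth.Agent.ResGerb16
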